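import Mathlib
import Cfsg.Prelude.Def_Characters
import Cfsg.Agent.H697.Alm.Defs
import Cfsg.Agent.H700.PRat
import Cfsg.Agent.Characters.GaloisIrr
import Cfsg.Agent.Characters.DefectZero
import Cfsg.Agent.Characters.Values
import Cfsg.Agent.S0145

/-!
# Almost `p`-rational characters of a quotient (tasks T18a, T18b of S4790, helper775)

* `apr_quot` : `apr p (G ⧸ N) ≤ apr p G`;
* `exists_almRat` : if `x` is an element of prime order `r ≠ p`, then some almost `p`-rational irreducible character does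
  not have `x` in its kernel (more precisely `χ (x⁻¹ q) ≠ χ q` for some `p`-element `q` of the centralizer of `x`);
* `apr_quot_lt` : `apr p (G ⧸ N) < apr p G`, if `N` is not a `p`-group.

Proof of `exists_almRat`: let `Q` be a Sylow `p`-subgroup of `C(x)`. The numbers `b χ = |Q|⁻¹ ∑ (χ (x⁻¹ q) - χ q)` are
algebraic integers and `∑ b χ * χ x = |C(x) : Q|` by column orthogonality. The units `u` of `ℤ/|G|` which are `1` modulo
the `p'`-part of `|G|` (and modulo `p`) form a `p`-group that acts on the characters by `χ ↦ (g ↦ χ (g ^ u))`, and the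
summands are constant on the orbits. So some fixed character has a nonzero summand.
-/

set_option autoImplicit false

open scoped ComplexConjugate
open Cfsg Cfsg.Agent.H697.Alm Cfsg.Agent.Characters

namespace Cfsg.Agent.H775.S4790

universe u

section infl

variable {G : Type u} [Group G] [Finite G]

/-- inflation -/
noncomputable def infl (p : ℕ) (N : Subgroup G) [N.Normal]
    (χ : {χ : IrrCharacter (G ⧸ N) // AlmRat p (χ : G ⧸ N → ℂ)}) :
    {χ : IrrCharacter G // AlmRat p (χ : G → ℂ)} :=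
  ⟨⟨(χ.1 : G ⧸ N → ℂ) ∘ QuotientGroup.mk' N,
      Core.isIrr_comp (QuotientGroup.mk' N) (QuotientGroup.mk'_surjective N) χ.1.2⟩, by
    obtain ⟨n, h0, h1, h2⟩ := χ.2
    exact ⟨n, h0, h1, fun g => h2 _⟩⟩

theorem infl_injective (p : ℕ) (N : Subgroup G) [N.Normal] : Function.Injective (infl p N) := by
  intro χ ψ h
  apply Subtype.ext
  apply Subtype.ext
  have h1 : (χ.1 : G ⧸ N → ℂ) ∘ QuotientGroup.mk' N = (ψ.1 : G ⧸ N → ℂ) ∘ QuotientGroup.mk' N :=
    congrArg (fun z : {χ : IrrCharacter G // AlmRat p (χ : G → ℂ)} => (z.1 : G → ℂ)) h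
  exact (QuotientGroup.mk'_surjective N).injective_comp_right h1

/-- **T18a** -/
theorem apr_quot {p : ℕ} (hp : p.Prime) (N : Subgroup G) [N.Normal] : apr p (G ⧸ N) ≤ apr p G := by
  have : Finite (IrrCharacter G) := Core.finite_irr
  exact Nat.card_le_card_of_injective _ (infl_injective p N)

/-- If the number of almost `p`-rational characters does not drop, all of them are inflated. -/
theorem infl_surjective {p : ℕ} (N : Subgroup G) [N.Normal] (h : ¬ apr p (G ⧸ N) < apr p G) :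
    Function.Surjective (infl p N) := by
  have : Finite (IrrCharacter G) := Core.finite_irr
  have : Finite (IrrCharacter (G ⧸ N)) := Core.finite_irr
  have h1 : Nat.card {χ : IrrCharacter G // AlmRat p (χ : G → ℂ)} ≤
      Nat.card {χ : IrrCharacter (G ⧸ N) // AlmRat p (χ : G ⧸ N → ℂ)} := not_lt.1 h
  exact ((infl_injective p N).bijective_of_nat_card_le h1).2

theorem eq_of_infl {p : ℕ} (N : Subgroup G) [N.Normal] (h : ¬ apr p (G ⧸ N) < apr p G)
    {χ : G → ℂ} (hχ : IsIrrCharacter G χ) (ha : AlmRat p χ) {a b : G} (hab : a⁻¹ * b ∈ N) : χ a = χ b := by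
  obtain ⟨ψ, hψ⟩ := infl_surjective N h ⟨⟨χ, hχ⟩, ha⟩
  have h1 : (ψ.1 : G ⧸ N → ℂ) ∘ QuotientGroup.mk' N = χ :=
    congrArg (fun z : {χ : IrrCharacter G // AlmRat p (χ : G → ℂ)} => (z.1 : G → ℂ)) hψ
  rw [← h1]
  show (ψ.1 : G ⧸ N → ℂ) (QuotientGroup.mk a) = (ψ.1 : G ⧸ N → ℂ) (QuotientGroup.mk b)
  rw [QuotientGroup.eq.2 hab]

end infl

section num

/-- `k ^ (p ^ a)` is `1` modulo `p ^ a * m` if `k` is `1` modulo `m` and modulo `p`. -/
theorem pow_modEq_one {p a m k : ℕ} (hp : p.Prime) (hm : ¬ p ∣ m) (h : k ≡ 1 [MOD p ^ min a 1 * m]) :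
    k ^ p ^ a ≡ 1 [MOD p ^ a * m] := by
  have hcop : (p ^ a).Coprime m := Nat.Coprime.pow_left _ ((Nat.Prime.coprime_iff_not_dvd hp).2 hm)
  refine (Nat.modEq_and_modEq_iff_modEq_mul hcop).1 ⟨?_, ?_⟩
  · rcases Nat.eq_zero_or_pos a with rfl | ha
    · rw [pow_zero]
      exact Nat.modEq_one
    · have h1 : min a 1 = 1 := by omega
      rw [h1, pow_one] at h
      have h2 : (p : ℤ) ∣ 1 - (k : ℤ) := by
        have h3 := (Nat.modEq_iff_dvd).1 (h.of_dvd (dvd_mul_right p m))
        exact_mod_cast h3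
      have h3 := dvd_sub_pow_of_dvd_sub h2 a
      rw [one_pow] at h3
      rw [Nat.modEq_iff_dvd]
      push_cast
      exact (pow_dvd_pow (p : ℤ) (Nat.le_succ a)).trans h3
  · have h1 := (h.of_dvd (dvd_mul_left m (p ^ min a 1))).pow (p ^ a)
    rwa [one_pow] at h1

/-- the units of `ℤ/N` which are `1` modulo `e` -/
def JJ {N e : ℕ} (he : e ∣ N) : Subgroup (ZMod N)ˣ := (ZMod.unitsMap he).ker

theorem mem_JJ {N e : ℕ} [NeZero N] (he : e ∣ N) (u : (ZMod N)ˣ) :
    u ∈ JJ he ↔ (u : ZMod N).val ≡ 1 [MOD e] := by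
  unfold JJ
  have h1 : (((u : ZMod N).val : ℕ) : ZMod N) = (u : ZMod N) := by rw [ZMod.natCast_val, ZMod.cast_id]
  rw [MonoidHom.mem_ker, Units.ext_iff, ZMod.unitsMap_val, ← h1, ZMod.cast_natCast he, Units.val_one,
      ← Nat.cast_one, ZMod.natCast_eq_natCast_iff, h1]

theorem isPGroup_JJ {p a m N : ℕ} (hp : p.Prime) (hm : ¬ p ∣ m) (hN : N = p ^ a * m)
    (he : p ^ min a 1 * m ∣ N) : IsPGroup p (JJ he) := by
  subst hN
  have hm0 : m ≠ 0 := by
    rintro rfl
    exact hm (dvd_zero p)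
  have : NeZero (p ^ a * m) := ⟨Nat.mul_ne_zero (pow_ne_zero _ hp.ne_zero) hm0⟩
  rintro ⟨u, hu⟩
  refine ⟨a, ?_⟩
  apply Subtype.ext
  apply Units.ext
  have h1 : (((u : ZMod (p ^ a * m)).val : ℕ) : ZMod (p ^ a * m)) = (u : ZMod (p ^ a * m)) := by
    rw [ZMod.natCast_val, ZMod.cast_id]
  have h2 := pow_modEq_one hp hm ((mem_JJ he u).1 hu)
  rw [← ZMod.natCast_eq_natCast_iff] at h2
  push_cast at h2
  rw [h1] at h2
  exact h2

end num

section act

variable {G : Type u} [Group G] [Finite G]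

/-- the power of a group element by a unit of `ℤ/|G|` -/
theorem pow_val_congr (g : G) {k l : ℕ} (h : k ≡ l [MOD Nat.card G]) : g ^ k = g ^ l :=
  pow_eq_pow_iff_modEq.2 (h.of_dvd (orderOf_dvd_natCard g))

/-- `χ ↦ (g ↦ χ (g ^ u))` -/
noncomputable abbrev act : MulAction (ZMod (Nat.card G))ˣ (IrrCharacter G) where
  smul u χ := ⟨fun g => (χ : G → ℂ) (g ^ (u : ZMod (Nat.card G)).val),
    GaloisIrr.isIrr_pow (ZMod.val_coe_unit_coprime u) χ.2⟩
  one_smul χ := by
    apply Subtype.ext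
    funext g
    show (χ : G → ℂ) (g ^ ((1 : (ZMod (Nat.card G))ˣ) : ZMod (Nat.card G)).val) = (χ : G → ℂ) g
    rw [Units.val_one, ZMod.val_one_eq_one_mod, pow_val_congr g (Nat.mod_modEq 1 (Nat.card G)), pow_one]
  mul_smul u v χ := by
    apply Subtype.ext
    funext g
    show (χ : G → ℂ) (g ^ ((u * v : (ZMod (Nat.card G))ˣ) : ZMod (Nat.card G)).val) =
      (χ : G → ℂ) ((g ^ (u : ZMod (Nat.card G)).val) ^ (v : ZMod (Nat.card G)).val)
    rw [Units.val_mul, ZMod.val_mul, pow_val_congr g (Nat.mod_modEq _ (Nat.card G)), pow_mul]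

/-- the values of a fixed character -/
theorem mem_adjoin_of_fixed {n : ℕ} (hn : n ∣ Nat.card G) {χ : G → ℂ} (hχ : IsIrrCharacter G χ)
    (h : ∀ k : ℕ, Nat.Coprime k (Nat.card G) → k ≡ 1 [MOD n] → ∀ g : G, χ (g ^ k) = χ g) (g : G) :
    χ g ∈ IntermediateField.adjoin ℚ ({Complex.exp (2 * Real.pi * Complex.I / n)} : Set ℂ) := by
  have hN0 : Nat.card G ≠ 0 := Nat.card_pos.ne'
  have hn0 : n ≠ 0 := by
    rintro rfl
    exact hN0 (zero_dvd_iff.1 hn)
  have hc := Core.isIrr_isCharacter hχ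
  have hgN : g ^ Nat.card G = 1 := pow_card_eq_one'
  refine H700.PRat.mem_adjoin_of_forall ?_ fun σ hσ => ?_
  · obtain ⟨d, μ, -, h1, h2⟩ := GaloisBasic.isCharacter_exists_fin_pow hc g hN0 hgN
    have h3 := h2 1
    rw [pow_one] at h3
    rw [h3]
    refine IsIntegral.sum _ fun i _ => ?_
    refine IsIntegral.of_pow (Nat.card_pos (α := G)) ?_
    rw [pow_one, h1]
    exact isIntegral_one
  · obtain ⟨k, hk, hk'⟩ := GaloisBasic.exists_coprime_pow (σ : ℂ →+* ℂ) hN0
    have hζ := Complex.isPrimitiveRoot_exp n hn0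
    have h1 : Complex.exp (2 * Real.pi * Complex.I / n) ^ k = Complex.exp (2 * Real.pi * Complex.I / n) := by
      obtain ⟨c, hc⟩ := hn
      have h2 := hk' (Complex.exp (2 * Real.pi * Complex.I / n)) (by rw [hc, pow_mul, hζ.pow_eq_one, one_pow])
      rw [← h2]
      exact hσ
    have h2 : k ≡ 1 [MOD n] := by
      have h3 : Complex.exp (2 * Real.pi * Complex.I / n) ^ k = Complex.exp (2 * Real.pi * Complex.I / n) ^ 1 := by
        rw [h1, pow_one]
      rw [pow_eq_pow_mod k hζ.pow_eq_one, pow_eq_pow_mod 1 hζ.pow_eq_one] at h3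
      exact hζ.pow_inj (Nat.mod_lt _ (Nat.pos_of_ne_zero hn0)) (Nat.mod_lt _ (Nat.pos_of_ne_zero hn0)) h3
    have h5 := GaloisBasic.map_apply (σ : ℂ →+* ℂ) hk' hc hN0 hgN
    rw [h k hk h2] at h5
    exact h5

/-- The characters fixed by the units `1` modulo `p` and modulo the `p'`-part are almost `p`-rational. -/
theorem almRat_of_fixed {p a m : ℕ} (hp : p.Prime) (hm : ¬ p ∣ m) (hN : Nat.card G = p ^ a * m)
    {χ : G → ℂ} (hχ : IsIrrCharacter G χ)
    (h : ∀ k : ℕ, Nat.Coprime k (Nat.card G) → k ≡ 1 [MOD p ^ min a 1 * m] → ∀ g : G, χ (g ^ k) = χ g) :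
    AlmRat p χ := by
  have hm0 : 0 < m := Nat.pos_of_ne_zero (by
    rintro rfl
    exact hm (dvd_zero p))
  by_cases hp2 : p = 2
  · subst hp2
    refine ⟨m, hm0, fun h2 => hm ((dvd_pow_self 2 two_ne_zero).trans h2), ?_⟩
    refine mem_adjoin_of_fixed (hN ▸ dvd_mul_left _ _) hχ fun k hk hk1 => h k hk ?_
    rcases Nat.eq_zero_or_pos a with rfl | ha
    · simpa using hk1
    · have h1 : min a 1 = 1 := by omega
      rw [h1, pow_one]
      have hcop : (2 : ℕ).Coprime m := (Nat.Prime.coprime_iff_not_dvd hp).2 hm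
      refine (Nat.modEq_and_modEq_iff_modEq_mul hcop).1 ⟨?_, hk1⟩
      have h2 : Nat.Coprime k 2 := by
        rw [hN] at hk
        exact hk.coprime_dvd_right ((dvd_pow_self 2 ha.ne').trans (dvd_mul_right _ _))
      rw [Nat.coprime_two_right, Nat.odd_iff] at h2
      exact h2
  · refine ⟨p ^ min a 1 * m, Nat.mul_pos (pow_pos hp.pos _) hm0, ?_, ?_⟩
    · intro h2
      have h3 : p ∣ m := by
        have h4 : p ^ 2 ∣ p ^ 1 * m := h2.trans (Nat.mul_dvd_mul_right (pow_dvd_pow p (min_le_right a 1)) m)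
        rw [pow_two, pow_one] at h4
        exact Nat.dvd_of_mul_dvd_mul_left hp.pos h4
      exact hm h3
    · exact mem_adjoin_of_fixed (hN ▸ Nat.mul_dvd_mul_right (pow_dvd_pow p (min_le_left a 1)) m) hχ h

end act

section avg

/-- The trace of an operator with `T ^ (k + 1) = T` is an algebraic integer. -/
theorem isIntegral_trace {V : Type*} [AddCommGroup V] [Module ℂ V] [FiniteDimensional ℂ V]
    {T : Module.End ℂ V} {k : ℕ} (hk : 0 < k) (hT : T ^ (k + 1) = T) :
    IsIntegral ℤ (LinearMap.trace ℂ V T) := by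
  rw [Values.trace_eq_sum_roots]
  refine IsIntegral.multiset_sum fun z hz => ?_
  have hroot : T.charpoly.IsRoot z := (Polynomial.mem_roots'.1 hz).2
  have hev : T.HasEigenvalue z := (Module.End.hasEigenvalue_iff_isRoot_charpoly T z).2 hroot
  obtain ⟨v, hv⟩ := hev.exists_hasEigenvector
  have h1 := hv.apply_eq_smul
  have h2 := hv.pow_apply (k + 1)
  rw [hT, h1] at h2
  have h3 : z = z ^ (k + 1) := by
    have h4 : (z - z ^ (k + 1)) • v = 0 := by rw [sub_smul, ← h2, sub_self]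
    rcases smul_eq_zero.1 h4 with h | h
    · exact sub_eq_zero.1 h
    · exact absurd h hv.2
  refine ⟨Polynomial.X ^ (k + 1) - Polynomial.X, ?_, ?_⟩
  · apply Polynomial.monic_X_pow_sub
    rw [Polynomial.degree_X]
    exact_mod_cast Nat.succ_lt_succ hk
  · simp [← h3]

/-- The average of a character over a coset `y Q`, `y` centralizing `Q`, is an algebraic integer. -/
theorem isIntegral_avg {G Q : Type*} [Group G] [Group Q] [Fintype Q] (f : Q →* G) {y : G} {r : ℕ} (hr : 0 < r)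
    (hy : y ^ r = 1) (hc : ∀ q : Q, Commute y (f q)) {χ : G → ℂ} (hχ : IsCharacter G χ) :
    IsIntegral ℤ ((Nat.card Q : ℂ)⁻¹ * ∑ q : Q, χ (y * f q)) := by
  obtain ⟨n, ρ, rfl⟩ := hχ
  have hQ : (Nat.card Q : ℂ) ≠ 0 := by exact_mod_cast Nat.card_pos.ne'
  let s : Module.End ℂ (Fin n → ℂ) := ∑ q : Q, ρ (f q)
  let e : Module.End ℂ (Fin n → ℂ) := (Nat.card Q : ℂ)⁻¹ • s
  have h1 : ∀ q : Q, ρ (f q) * s = s := by
    intro q
    simp only [s, Finset.mul_sum, ← map_mul]
    exact Fintype.sum_equiv (Equiv.mulLeft q) _ _ fun _ => rfl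
  have h2 : s * s = (Nat.card Q : ℂ) • s := by
    have h3 : s * s = ∑ q : Q, ρ (f q) * s := Finset.sum_mul _ _ _
    rw [h3, Finset.sum_congr rfl fun q _ => h1 q, Finset.sum_const, Finset.card_univ,
      ← Nat.card_eq_fintype_card, Nat.cast_smul_eq_nsmul]
  have he : IsIdempotentElem e := by
    show e * e = e
    simp only [e]
    rw [smul_mul_smul_comm, h2, smul_smul, mul_assoc, inv_mul_cancel₀ hQ, mul_one]
  have hcom : Commute (ρ y) e := by
    refine Commute.smul_right ?_ _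
    refine Commute.sum_right _ _ _ fun q _ => ?_
    show ρ y * ρ (f q) = ρ (f q) * ρ y
    rw [← map_mul, ← map_mul, (hc q).eq]
  have h4 : (ρ y * e) ^ (r + 1) = ρ y * e := by
    rw [hcom.mul_pow, he.pow_succ_eq, ← map_pow, pow_succ, hy, one_mul]
  have h5 := isIntegral_trace hr h4
  have h6 : LinearMap.trace ℂ _ (ρ y * e) = (Nat.card Q : ℂ)⁻¹ * ∑ q : Q, ρ.character (y * f q) := by
    simp only [e, s]
    rw [mul_smul_comm, Finset.mul_sum, map_smul, map_sum, smul_eq_mul]
    congr 1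
    refine Finset.sum_congr rfl fun q _ => ?_
    rw [← map_mul]
    rfl
  rw [h6] at h5
  exact h5

end avg

section main

variable {G : Type u} [Group G] [Finite G]

/-- A multiple of `p` by an algebraic integer that is a natural number is divisible by `p`. -/
theorem dvd_of_eq_mul {p c : ℕ} (hp : p ≠ 0) {r : ℂ} (hr : IsIntegral ℤ r) (h : (c : ℂ) = p * r) : p ∣ c := by
  have hp' : (p : ℂ) ≠ 0 := by exact_mod_cast hp
  have h1 : r = (((c : ℚ) / p : ℚ) : ℂ) := by
    push_cast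
    rw [h]
    field_simp
  obtain ⟨n, hn⟩ := GaloisBasic.exists_int_of_isIntegral hr ⟨_, h1⟩
  rw [hn] at h
  have h2 : (c : ℤ) = p * n := by exact_mod_cast h
  exact_mod_cast (Dvd.intro n h2.symm)

/-- the main step -/
theorem exists_almRat {p : ℕ} (hp : p.Prime) {x : G} (hx : (orderOf x).Prime) (hxp : orderOf x ≠ p) :
    ∃ χ : G → ℂ, IsIrrCharacter G χ ∧ AlmRat p χ ∧ ∃ q : G, χ (x⁻¹ * q) ≠ χ q := by
  classical
  by_contra hcon
  push Not at hcon
  have : Fact p.Prime := ⟨hp⟩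
  have := Core.finite_irr (G := G)
  have := Fintype.ofFinite (IrrCharacter G)
  have := Fintype.ofFinite G
  have : NeZero (Nat.card G) := ⟨Nat.card_pos.ne'⟩
  obtain ⟨a, m, hm, hN⟩ := Nat.exists_eq_pow_mul_and_not_dvd (n := Nat.card G) Nat.card_pos.ne' p hp.ne_one
  have he : p ^ min a 1 * m ∣ Nat.card G := hN ▸ Nat.mul_dvd_mul_right (pow_dvd_pow p (min_le_left a 1)) m
  -- the Sylow subgroup of the centralizer
  let C := Subgroup.centralizer ({x} : Set G)
  obtain ⟨Q, hQp, hQi⟩ : ∃ Q : Subgroup C, IsPGroup p Q ∧ ¬ p ∣ Q.index := by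
    obtain ⟨Q⟩ : Nonempty (Sylow p C) := inferInstance
    exact ⟨Q, Q.isPGroup', Q.not_dvd_index⟩
  have : Fintype Q := Fintype.ofFinite _
  let f : Q →* G := C.subtype.comp Q.subtype
  have hf : Function.Injective f := Subtype.val_injective.comp Subtype.val_injective
  have hcx : ∀ q : Q, Commute x (f q) := fun q => by
    have h1 : (f q) ∈ C := q.1.2
    exact (Subgroup.mem_centralizer_iff.1 h1 x rfl)
  have hQ0 : (Nat.card Q : ℂ) ≠ 0 := by exact_mod_cast Nat.card_pos.ne'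
  -- the numbers `b χ`
  let b : IrrCharacter G → ℂ := fun χ =>
    (Nat.card Q : ℂ)⁻¹ * ∑ q : Q, (χ : G → ℂ) (x⁻¹ * f q) - (Nat.card Q : ℂ)⁻¹ * ∑ q : Q, (χ : G → ℂ) (f q)
  let w : IrrCharacter G → ℂ := fun χ => b χ * (χ : G → ℂ) x
  have hbint : ∀ χ, IsIntegral ℤ (b χ) := by
    intro χ
    have hc := Core.isIrr_isCharacter χ.2
    refine IsIntegral.sub (isIntegral_avg f hx.pos (by rw [inv_pow, pow_orderOf_eq_one, inv_one])
      (fun q => (hcx q).inv_left) hc) ?_
    have h1 := isIntegral_avg f (y := 1) one_pos (one_pow 1) (fun q => Commute.one_left _) hc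
    simpa only [one_mul] using h1
  have hwint : ∀ χ, IsIntegral ℤ (w χ) := fun χ =>
    (hbint χ).mul (GaloisBasic.isIntegral_apply (Core.isIrr_isCharacter χ.2) x)
  -- the action
  let _ := act (G := G)
  let J : Subgroup (ZMod (Nat.card G))ˣ := JJ he
  have hJ : IsPGroup p J := isPGroup_JJ hp hm hN he
  have hpow : ∀ k : ℕ, k ≡ 1 [MOD p ^ min a 1 * m] → x ^ k = x := by
    intro k hk
    have h1 : orderOf x ∣ m := by
      have h2 : orderOf x ∣ p ^ a * m := hN ▸ orderOf_dvd_natCard x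
      refine Nat.Coprime.dvd_of_dvd_mul_left (Nat.Coprime.pow_right _ ?_) h2
      exact (Nat.coprime_primes hx hp).2 hxp
    have h3 : x ^ k = x ^ 1 := pow_eq_pow_iff_modEq.2 (hk.of_dvd (h1.trans (dvd_mul_left _ _)))
    rw [h3, pow_one]
  have hinv : ∀ (u : J) (χ : IrrCharacter G), w (u • χ) = w χ := by
    rintro ⟨u, hu⟩ χ
    set k := (u : ZMod (Nat.card G)).val with hk
    have hk1 : k ≡ 1 [MOD p ^ min a 1 * m] := (mem_JJ he u).1 hu
    have hk2 : k.Coprime (Nat.card G) := ZMod.val_coe_unit_coprime u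
    have hcopQ : (Nat.card Q).Coprime k := by
      refine (hk2.coprime_dvd_right ?_).symm
      exact (Subgroup.card_subgroup_dvd_card Q).trans (Subgroup.card_subgroup_dvd_card C)
    have hval : ∀ g : G, ((⟨u, hu⟩ : J) • χ : IrrCharacter G).1 g = (χ : G → ℂ) (g ^ k) := fun g => rfl
    have h1 : (∑ q : Q, ((⟨u, hu⟩ : J) • χ : IrrCharacter G).1 (x⁻¹ * f q)) = ∑ q : Q, (χ : G → ℂ) (x⁻¹ * f q) := by
      refine Fintype.sum_equiv (powCoprime hcopQ) _ _ fun q => ?_
      rw [hval, ((hcx q).inv_left).mul_pow, inv_pow, hpow k hk1]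
      show _ = (χ : G → ℂ) (x⁻¹ * f (q ^ k))
      rw [map_pow]
    have h2 : (∑ q : Q, ((⟨u, hu⟩ : J) • χ : IrrCharacter G).1 (f q)) = ∑ q : Q, (χ : G → ℂ) (f q) := by
      refine Fintype.sum_equiv (powCoprime hcopQ) _ _ fun q => ?_
      rw [hval]
      show _ = (χ : G → ℂ) (f (q ^ k))
      rw [map_pow]
    show ((Nat.card Q : ℂ)⁻¹ * ∑ q : Q, ((⟨u, hu⟩ : J) • χ : IrrCharacter G).1 (x⁻¹ * f q) -
      (Nat.card Q : ℂ)⁻¹ * ∑ q : Q, ((⟨u, hu⟩ : J) • χ : IrrCharacter G).1 (f q)) *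
        ((⟨u, hu⟩ : J) • χ : IrrCharacter G).1 x = _
    rw [h1, h2, hval, hpow k hk1]
  have hd : ∀ χ : IrrCharacter G, w χ ≠ 0 → p ∣ Nat.card (MulAction.orbit J χ) := by
    intro χ hχ
    obtain ⟨j, hj⟩ := hJ.card_orbit χ
    rcases Nat.eq_zero_or_pos j with rfl | hj0
    · exfalso
      rw [pow_zero] at hj
      have hfix : ∀ u : J, u • χ = χ := by
        intro u
        have h1 := (Nat.card_eq_one_iff_unique.1 hj).1
        have h2 := h1.elim ⟨u • χ, MulAction.mem_orbit χ u⟩ ⟨χ, MulAction.mem_orbit_self χ⟩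
        exact congrArg Subtype.val h2
      have halm : AlmRat p (χ : G → ℂ) := by
        refine almRat_of_fixed hp hm hN χ.2 fun k hk hk1 g => ?_
        have h1 : ZMod.unitOfCoprime k hk ∈ J := by
          rw [mem_JJ, ZMod.coe_unitOfCoprime, ZMod.val_natCast]
          exact ((Nat.mod_modEq k (Nat.card G)).of_dvd he).trans hk1
        have h2 := hfix ⟨_, h1⟩
        have h3 := congrArg (fun ψ : IrrCharacter G => (ψ : G → ℂ) g) h2
        have h4 : (χ : G → ℂ) (g ^ ((ZMod.unitOfCoprime k hk : (ZMod (Nat.card G))ˣ) : ZMod (Nat.card G)).val) =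
          (χ : G → ℂ) g := h3
        rw [ZMod.coe_unitOfCoprime, ZMod.val_natCast, pow_val_congr g (Nat.mod_modEq k (Nat.card G))] at h4
        exact h4
      have hb := hcon (χ : G → ℂ) χ.2 halm
      apply hχ
      show b χ * _ = 0
      have : b χ = 0 := by
        simp only [b]
        rw [Finset.sum_congr rfl fun q _ => hb (f q), sub_self]
      rw [this, zero_mul]
    · rw [hj]
      exact dvd_pow_self p hj0.ne'
  obtain ⟨r, hr, hsum⟩ := DefectZero.sum_eq_of_dvd_orbit (H := J) (integralClosure ℤ ℂ).toSubring p w hinv hwint hd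
  -- column orthogonality
  have hcop : ∀ q : Q, (orderOf (f q)).Coprime (orderOf x) := by
    intro q
    obtain ⟨j, hj⟩ := (IsPGroup.iff_orderOf.1 hQp) q
    rw [orderOf_injective f hf, hj]
    exact Nat.Coprime.pow_left _ ((Nat.coprime_primes hp hx).2 hxp.symm)
  have hord : ∀ {y z : G}, IsConj y z → orderOf y = orderOf z := by
    intro y z hyz
    obtain ⟨c, rfl⟩ := isConj_iff.1 hyz
    exact ((MulAut.conj c).orderOf_eq y).symm
  have hCi : Subgroup.centralizer ({x⁻¹} : Set G) = C := by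
    ext c
    rw [Subgroup.mem_centralizer_singleton_iff, Subgroup.mem_centralizer_singleton_iff]
    exact Commute.inv_right_iff
  have horth : ∀ y : G, ∑ χ : IrrCharacter G, (χ : G → ℂ) y * (χ : G → ℂ) x =
      if IsConj y x⁻¹ then (Nat.card C : ℂ) else 0 := by
    intro y
    have h1 := S0145.sum_irr_mul_conj y x⁻¹
    rw [hCi] at h1
    rw [← h1]
    refine Finset.sum_congr rfl fun χ _ => ?_
    rw [← Core.isCharacter_apply_inv (Core.isIrr_isCharacter χ.2), inv_inv]
  have hcol1 : ∀ q : Q, (∑ χ : IrrCharacter G, (χ : G → ℂ) (x⁻¹ * f q) * (χ : G → ℂ) x) =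
      if q = 1 then (Nat.card C : ℂ) else 0 := by
    intro q
    rw [horth]
    by_cases hq : q = 1
    · subst hq
      rw [map_one, mul_one, if_pos (IsConj.refl _), if_pos rfl]
    · rw [if_neg hq, if_neg]
      intro hxy
      apply hq
      have h2 : orderOf (x⁻¹ * f q) = orderOf x * orderOf (f q) := by
        rw [((hcx q).inv_left).orderOf_mul_eq_mul_orderOf_of_coprime (by rw [orderOf_inv]; exact (hcop q).symm),
          orderOf_inv]
      have h3 := hord hxy
      rw [h2, orderOf_inv] at h3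
      have h4 : orderOf (f q) = 1 := by
        have h5 : orderOf x * orderOf (f q) = orderOf x * 1 := by rw [h3, mul_one]
        exact Nat.eq_of_mul_eq_mul_left hx.pos h5
      rw [orderOf_eq_one_iff] at h4
      exact hf (h4.trans (map_one f).symm)
  have hcol2 : ∀ q : Q, (∑ χ : IrrCharacter G, (χ : G → ℂ) (f q) * (χ : G → ℂ) x) = 0 := by
    intro q
    rw [horth, if_neg]
    intro hxy
    have h3 := hord hxy
    rw [orderOf_inv] at h3
    have h4 := hcop q
    rw [h3, Nat.coprime_self] at h4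
    exact hx.ne_one h4
  have hcol : ∑ χ, w χ = (Q.index : ℂ) := by
    have h1 : ∑ χ, w χ = (Nat.card Q : ℂ)⁻¹ * ∑ q : Q, ∑ χ : IrrCharacter G, (χ : G → ℂ) (x⁻¹ * f q) * (χ : G → ℂ) x -
        (Nat.card Q : ℂ)⁻¹ * ∑ q : Q, ∑ χ : IrrCharacter G, (χ : G → ℂ) (f q) * (χ : G → ℂ) x := by
      have h2 := Finset.sum_comm (s := (Finset.univ : Finset Q)) (t := (Finset.univ : Finset (IrrCharacter G)))
        (f := fun q χ => (χ : G → ℂ) (x⁻¹ * f q) * (χ : G → ℂ) x)
      have h3 := Finset.sum_comm (s := (Finset.univ : Finset Q)) (t := (Finset.univ : Finset (IrrCharacter G)))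
        (f := fun q χ => (χ : G → ℂ) (f q) * (χ : G → ℂ) x)
      rw [h2, h3, Finset.mul_sum, Finset.mul_sum, ← Finset.sum_sub_distrib]
      refine Finset.sum_congr rfl fun χ _ => ?_
      show b χ * (χ : G → ℂ) x = _
      simp only [b]
      rw [sub_mul, mul_assoc, mul_assoc, Finset.sum_mul, Finset.sum_mul]
    rw [h1, Finset.sum_congr rfl fun q _ => hcol1 q, Finset.sum_congr rfl fun q _ => hcol2 q,
      Finset.sum_ite_eq' Finset.univ (1 : Q) (fun _ => (Nat.card C : ℂ)), if_pos (Finset.mem_univ _), Finset.sum_const_zero,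
      mul_zero, sub_zero, ← Q.card_mul_index]
    push_cast
    rw [inv_mul_cancel_left₀ hQ0]
  rw [hcol] at hsum
  exact hQi (dvd_of_eq_mul hp.ne_zero hr hsum)

/-- **T18b** -/
theorem apr_quot_lt {p : ℕ} (hp : p.Prime) (N : Subgroup G) [N.Normal] (hN : N ≠ ⊥)
    (h : ¬ p ∣ Nat.card N ∨ commutator N = ⊤) : apr p (G ⧸ N) < apr p G := by
  have : Fact p.Prime := ⟨hp⟩
  have hnt : Nontrivial N := (Subgroup.nontrivial_iff_ne_bot N).2 hN
  have hnp : ¬ IsPGroup p N := by
    intro hpg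
    rcases h with h | h
    · obtain ⟨k, hk⟩ := IsPGroup.iff_card.1 hpg
      rcases Nat.eq_zero_or_pos k with rfl | hk0
      · rw [pow_zero] at hk
        have h1 : 1 < Nat.card N := Finite.one_lt_card
        omega
      · exact h (hk ▸ dvd_pow_self p hk0.ne')
    · have h1 : Group.IsNilpotent N := hpg.isNilpotent
      have h2 : Group.IsSolvable N := inferInstance
      have h3 : commutator N < ⊤ := Group.IsSolvable.commutator_lt_top_of_nontrivial N
      exact h3.ne h
  obtain ⟨r, hr, hrp, hrN⟩ : ∃ r : ℕ, r.Prime ∧ r ≠ p ∧ r ∣ Nat.card N := by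
    by_contra hcon
    push Not at hcon
    apply hnp
    rw [IsPGroup.iff_card]
    refine ⟨(Nat.card N).primeFactorsList.length, ?_⟩
    apply Nat.eq_prime_pow_of_unique_prime_dvd Nat.card_pos.ne'
    intro d hd hdN
    by_contra hdp
    exact hcon d hd hdp hdN
  have : Fact r.Prime := ⟨hr⟩
  obtain ⟨⟨x, hxN⟩, hx⟩ := exists_prime_orderOf_dvd_card' r hrN
  rw [← Subgroup.orderOf_coe] at hx
  by_contra hcon
  obtain ⟨χ, hχ, ha, q, hq⟩ := exists_almRat hp (x := x) (by rw [hx]; exact hr) (by rw [hx]; exact hrp)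
  apply hq
  symm
  refine eq_of_infl N hcon hχ ha ?_
  have h1 := (inferInstance : N.Normal).conj_mem _ (N.inv_mem hxN) q⁻¹
  rwa [inv_inv, mul_assoc] at h1

end main

end Cfsg.Agent.H775.S4790
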